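import Cfsg.Agent.Mrg.Omega.NO3b.Union.Line
import Cfsg.Agent.Mrg.Omega.NO3b.K0.Abs
import Cfsg.Agent.Mrg.Omega.NO3b.K0.FullOff
import Cfsg.Agent.Mrg.Omega.FFBr.Final
import Cfsg.Agent.Mrg.Omega.Exit.WeakClosed
import Cfsg.Agent.Mrg.Omega.NO3b.AlphaEnd
import Cfsg.Agent.Mrg.Omega.Spread.ElatOf

section


/-!
# The union text for NotFF (helper1, #15791; referee #15980): the leaf from what is left

`notFF` : `NO3S.NotFF K` from

* `Beta K` : (a) the case BETA;
* `Loc K` : (c) ALPHA, all situations `(F, X)` are local;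
* `Cen K` : (d) (CEN) for the nonlocal situations.
-/

set_option autoImplicit false
set_option linter.unusedSectionVars false

namespace Cfsg.Agent.Omega.NO3b.Union

open Subgroup Cfsg Cfsg.Agent.ZN Cfsg.Agent.ZN.ChoiceBase Cfsg.Agent.Omega.MinPar Cfsg.Agent.Omega.Frame
open Cfsg.Agent.Omega.FrameNOFF
open Cfsg.Agent.Omega.NO1 Cfsg.Agent.Omega.NO1.JMin
open Cfsg.Agent.Omega.NO3b.EZero (NotFF)
open Cfsg.Agent.Omega.NOne.Flat (Bad WW)
open Cfsg.Agent.MinSimple.VModule (oddGen)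

universe u

section

variable {G : Type u} [Group G] [Finite G] {S : Sylow 2 G} {P M F X : Subgroup G}

theorem Cf.of_not_ffMod (hc : IsCharacteristicTwoType G) (hP : IsParS (S : Subgroup G) P)
    (h : ¬ NO3S.FFMod (S : Subgroup G) P) : Cf S P :=
  ⟨hc, hP, fun A hA ho => h ⟨A, hA, ho⟩⟩

/-- `C_G(Z) ≰ N_G(V)` -/
theorem not_cent_le (hI : Inv (S : Subgroup G) P M) (hn : NonLoc P (CZ (S : Subgroup G)))
    (hZ : zc (S : Subgroup G) ≠ ⊥) :
    ¬ centralizer (zc (S : Subgroup G) : Set G) ≤ normalizer (zl (S : Subgroup G) M : Set G) := by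
  intro hle
  have h1 := hn _ (V_two hI) (hI.PM.trans (M_le hI)) hle
  exact hZ (le_bot_iff.1 (h1 ▸ Z_le hI))

/-- (4) with the FF theorem. -/
theorem Sit.false_of (s : Sit S P M F X) (hloc : NonLoc (LL (S : Subgroup G) M) X)
    (hcen : EZero.cl (zl (S : Subgroup G) M) X ⊓
      centralizer (((S : Subgroup G) ⊓ centralizer (F : Set G) : Subgroup G) : Set G) ≤
        centralizer (oddGen X : Set G)) : False :=
  s.absurd (K0.noOv FFBr.aStmt s.sylX s.mp) (K0.fullOff FFBr.aStmt s.sylX s.mp) hloc hcen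

/-- **`F = Z` and `⟨L, X⟩` nonlocal is impossible.** -/
theorem Sit.false_of_Z (s : Sit S P M F X) (hF : F = zc (S : Subgroup G))
    (hloc : NonLoc (LL (S : Subgroup G) M) X) : False :=
  s.false_of hloc (s.cen_of_Z hF hloc)

end

variable (K : Cls.{u})

/-- **(a) BETA.** -/
def Beta : Prop :=
  ∀ (G : Type u) [Group G] [Finite G], K G → ∀ (S : Sylow 2 G) (P M F : Subgroup G), NO3S.HypC S → Cf S P →
    NonLoc P (CZ (S : Subgroup G)) → Ch (S : Subgroup G) P (Fam (S : Subgroup G)) M →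
      NotFF (zl (S : Subgroup G) M) → NOne.Flat.Hyp (zl (S : Subgroup G) M) F →
        WW (zl (S : Subgroup G) M) F ≤ S → ¬ WW (zl (S : Subgroup G) M) F ≤ o2 P → IsKnownSimple' G

/-- **(c) LOCAL EXIT**: ALPHA, all situations with `Z ≤ F` are local. -/
def Loc : Prop :=
  ∀ (G : Type u) [Group G] [Finite G], K G → ∀ (S : Sylow 2 G) (P M : Subgroup G), NO3S.HypC S → Cf S P →
    NonLoc P (CZ (S : Subgroup G)) → Ch (S : Subgroup G) P (Fam (S : Subgroup G)) M → Alpha S P M →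
      (∀ F X : Subgroup G, Sit S P M F X → zc (S : Subgroup G) ≤ F → ¬ NonLoc (LL (S : Subgroup G) M) X) →
        IsKnownSimple' G

/-- **(d) (CEN)** for the nonlocal situations with `Z < F` (so `X ≤ C_G(Z)`). -/
def Cen : Prop :=
  ∀ (G : Type u) [Group G] [Finite G], K G → ∀ (S : Sylow 2 G) (P M F X : Subgroup G), NO3S.HypC S → Cf S P →
    NonLoc P (CZ (S : Subgroup G)) → Ch (S : Subgroup G) P (Fam (S : Subgroup G)) M → Sit S P M F X →
      zc (S : Subgroup G) ≤ F → F ≠ zc (S : Subgroup G) → NonLoc (LL (S : Subgroup G) M) X →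
        EZero.cl (zl (S : Subgroup G) M) X ⊓
          centralizer (((S : Subgroup G) ⊓ centralizer (F : Set G) : Subgroup G) : Set G) ≤
            centralizer (oddGen X : Set G)

variable {K}

/-- **The leaf NotFF.** -/
theorem notFF_leaf (hB : Beta K) (hL : Loc K) (hC : Cen K) : NO3S.NotFF K := by
  intro G _ _ hK S h hff
  obtain ⟨P, hP, hn⟩ := h.ex
  have hcf : Cf S P := Cf.of_not_ffMod h.ctx.char2 hP (hff P hP hn)
  obtain ⟨M, c, hnff, ha | ⟨F, hF, h1, h2⟩⟩ := hcf.exists_chain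
  · by_cases hex : ∃ F X : Subgroup G, Sit S P M F X ∧ zc (S : Subgroup G) ≤ F ∧ NonLoc (LL (S : Subgroup G) M) X
    · obtain ⟨F, X, s, hZF, hloc⟩ := hex
      by_cases hZ : F = zc (S : Subgroup G)
      · exact (s.false_of_Z hZ hloc).elim
      · exact (s.false_of hloc (hC G hK S P M F X h hcf hn c s hZF hZ hloc)).elim
    · push Not at hex
      exact hL G hK S P M h hcf hn c ha hex
  · exact hB G hK S P M F h hcf hn c hnff hF h1 h2

end Cfsg.Agent.Omega.NO3b.Union

end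

section


/-!
# The leaf NotFF from THEOREM OFF and the local exit

`Adm S P B V` : the admissible pairs of helper58 (#17095): `B = C_S(V) ≤ O₂(P)` weakly closed in `S`,
`V = ⟨Z^{N_G(B)}⟩ ≤ O₂(C_G(Z))` not FF. `exists_adm` : the w.c. frame (#16346) gives one.

`LocMax K` : the local exit: `|V|` maximal, `F ≥ Z` maximal in `V` with `C_G(F) ≰ N_G(V)`, `T = C_S(F)`, `X` minimal
over `T` in `C_G(F)` with `X ≰ N_G(V)`, `1 ≠ R` a 2-group normalised by `N_G(B)` and `X`.

`notFF` : `NO3S.NotFF K` from THEOREM OFF (`Wc.StmtOff`) and `LocMax K`; `notFF_of_locMax` : THEOREM OFF plugged.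
-/

set_option autoImplicit false

namespace Cfsg.Agent.Omega.NO3b.Final

open Subgroup Cfsg
open Cfsg.Agent.ZN (o2 zc zl jj)
open Cfsg.Agent.ZN.ChoiceBase hiding mem_zc
open Cfsg.Agent.Omega.MinPar Cfsg.Agent.Omega.Frame Cfsg.Agent.Omega.FrameNOFF
open Cfsg.Agent.Omega.NO3b.EZero (NotFF Par)
open Cfsg.Agent.Omega.NO3b.Alpha (Fl)
open Cfsg.Agent.Omega.NO3b.NoEmp (Lines)
open Cfsg.Agent.Omega.NO3b.Wc
open Cfsg.Agent.Omega.FFThm (ElemM OffM relIndex_le_iff)

universe u

section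

variable {G : Type u} [Group G] [Finite G]

/-- The admissible pairs (helper58, #17095). -/
structure Adm (S : Sylow 2 G) (P B V : Subgroup G) : Prop extends Lines S B V where
  cs : (S : Subgroup G) ⊓ centralizer (V : Set G) = B
  le : B ≤ o2 P
  eq : V = zl (S : Subgroup G) (normalizer (B : Set G))

variable {S : Sylow 2 G} {P B V : Subgroup G}

/-- `V_P` is not FF, in the sense of `EZero.NotFF`. -/
theorem notFF_of (hP : (S : Subgroup G) ≤ P) (h : ¬ NO3S.FFMod (S : Subgroup G) P) :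
    NotFF (zl (S : Subgroup G) P) := by
  intro A hA hN hsq hcm hne
  by_contra hcon
  rw [not_lt, ← relIndex_le_iff] at hcon
  obtain ⟨n, hn, hnA⟩ := Union.exists_conj_le (hP.trans (MinSimple.VModule.le_normalizer_zl _ _)) hA hN
  have hV := cj_eq_of_mem_normalizer hn
  have hV' := cj_eq_of_mem_normalizer (inv_mem hn)
  apply h
  refine ⟨cj n A, hnA, ⟨⟨?_, ?_⟩, ?_, ?_⟩⟩
  · intro a ha
    have h1 := hsq _ (mem_cj.1 ha)
    have e : (n⁻¹ * a * n) ^ 2 = n⁻¹ * a ^ 2 * n := by rw [pow_two, pow_two]; group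
    rw [e] at h1
    have h2 := mem_cj.2 h1
    rwa [cj_centralizer, hV] at h2
  · intro a ha b hb
    have h1 := hcm _ (mem_cj.1 ha) _ (mem_cj.1 hb)
    have e : n⁻¹ * a * n * (n⁻¹ * b * n) * (n⁻¹ * a * n)⁻¹ * (n⁻¹ * b * n)⁻¹ =
        n⁻¹ * (a * b * a⁻¹ * b⁻¹) * n := by group
    rw [e] at h1
    have h2 := mem_cj.2 h1
    rwa [cj_centralizer, hV] at h2
  · intro h1
    apply hne
    rw [cj_le_iff, cj_centralizer, hV'] at h1
    exact h1
  · rw [relIndex_le_iff] at hcon ⊢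
    rw [← EZero.relIndex_cj n, ← EZero.relIndex_cj n (centralizer _) A, cj_centralizer, cj_centralizer, hV] at hcon
    exact hcon

theorem root_of (hc : IsCharacteristicTwoType G) (hP : IsParS (S : Subgroup G) P)
    (h : ¬ NO3S.FFMod (S : Subgroup G) P) : Root S P where
  le := hP.toIsPar.isLoc.le
  comm := (Union.Cf.of_not_ffMod hc hP h).V_comm
  sq := (Union.Cf.of_not_ffMod hc hP h).V_sq
  nff := notFF_of hP.toIsPar.isLoc.le h
  cs := by
    rw [(Union.Cf.of_not_ffMod hc hP h).S_inf_centralizer]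
    exact MinSimple.VModule.le_normalizer_o2 P

theorem exists_adm (hc : IsCharacteristicTwoType G) (hoff : StmtOff G) (hP : IsParS (S : Subgroup G) P)
    (h : ¬ NO3S.FFMod (S : Subgroup G) P)
    (hz : zl (S : Subgroup G) P ≤ o2 (centralizer (zc (S : Subgroup G) : Set G)))
    (hne : zc (S : Subgroup G) ≠ ⊥) : ∃ B V, Adm S P B V := by
  have r := root_of hc hP h
  refine ⟨_, _, { toLines := r.lines' hc hoff hz hne, cs := r.cs_V, le := ?_, eq := rfl }⟩
  have h1 := WH_le (S : Subgroup G) P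
  rwa [QL, (Union.Cf.of_not_ffMod hc hP h).S_inf_centralizer] at h1

/-- `P ≤ N_G(B)` -/
theorem Adm.P_le (a : Adm S P B V) (hP : o2 P ≤ (S : Subgroup G)) : P ≤ normalizer (B : Set G) := by
  intro p hp
  rw [mem_normalizer_iff_cj]
  refine a.wc p ((cj_mono p a.le).trans ?_)
  rw [cj_eq_of_mem_normalizer (MinSimple.VModule.le_normalizer_o2 P hp)]
  exact hP

theorem Adm.nle (a : Adm S P B V) (hP : o2 P ≤ (S : Subgroup G)) (hn : NonLoc P (CZ (S : Subgroup G)))
    (hne : zc (S : Subgroup G) ≠ ⊥) :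
    ¬ centralizer (zc (S : Subgroup G) : Set G) ≤ normalizer (V : Set G) := by
  intro h
  have h1 := hn V (NoEmp.pgroup_of_sq a.sq) ((a.P_le hP).trans a.NJ) h
  exact hne (le_bot_iff.1 (h1 ▸ a.ZV))

end

variable (K : Cls.{u})

/-- **The local exit.** -/
def LocMax : Prop :=
  ∀ (G : Type u) [Group G] [Finite G], K G → ∀ S : Sylow 2 G, NO3S.HypC S →
    (∀ P : Subgroup G, IsParS (S : Subgroup G) P → NonLoc P (CZ (S : Subgroup G)) →
      ¬ NO3S.FFMod (S : Subgroup G) P) →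
    ∀ P B V F T X R : Subgroup G, IsParS (S : Subgroup G) P → NonLoc P (CZ (S : Subgroup G)) →
      Adm S P B V → (∀ B' V' : Subgroup G, Adm S P B' V' → Nat.card V' ≤ Nat.card V) →
        Fl S V F T → zc (S : Subgroup G) ≤ F → Par V F T X → R ≠ ⊥ → IsPGroup 2 R →
          normalizer (B : Set G) ≤ normalizer (R : Set G) → X ≤ normalizer (R : Set G) → IsKnownSimple' G

variable {K}

/-- **The leaf NotFF.** -/
theorem notFF (hoff : ∀ (G : Type u) [Group G] [Finite G], StmtOff G) (hL : LocMax K) : NO3S.NotFF K := by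
  intro G _ _ hK S h hff
  obtain ⟨P, hP, hn⟩ := h.ex
  have hne : zc (S : Subgroup G) ≠ ⊥ := by
    intro h0
    have h1 : (S : Subgroup G) = ⊥ := by
      by_contra hS
      exact MinSimple.Basic.zc_ne_bot S.isPGroup' hS h0
    have h2 := hP.toIsPar.isLoc
    exact h2.o2_ne (le_bot_iff.1 ((h2.o2_le S).trans h1.le))
  obtain ⟨B₀, V₀, a₀⟩ := exists_adm h.ctx.char2 (hoff G) hP (hff P hP hn) (h.low P hP) hne
  obtain ⟨⟨B, V⟩, a, hmax⟩ := Set.exists_max_image {x : Subgroup G × Subgroup G | Adm S P x.1 x.2}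
    (fun x => Nat.card x.2) (Set.toFinite _) ⟨(B₀, V₀), a₀⟩
  have hoP := hP.toIsPar.isLoc.o2_le S
  have hnle := Adm.nle a hoP hn hne
  obtain ⟨F, T, f, hZF, ⟨X, hX⟩, hloc⟩ := AlphaEnd.exists_local FFBr.aStmt FFBr.ffthm h.ctx.char2 a.toLines hnle
  obtain ⟨R, hR, hR2, h1, h2⟩ := hloc X hX
  rw [Adm.cs a] at h1
  exact hL G hK S h hff P B V F T X R hP hn a (fun B' V' a' => hmax (B', V') a') f hZF hX hR hR2 h1 h2

/-- THEOREM OFF (helper304, `Hyp.off_all`). -/
theorem stmtOff (G : Type u) [Group G] [Finite G] : StmtOff G :=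
  fun _ _ h _ hF hE => h.off_all hF hE

/-- **The leaf NotFF from the local exit alone.** -/
theorem notFF_of_locMax (hL : LocMax K) : NO3S.NotFF K :=
  notFF (fun G => stmtOff G) hL

end Cfsg.Agent.Omega.NO3b.Final

end
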