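import Cfsg.Agent.Mrg.Omega.NO3b.Union.Dich
import Cfsg.Agent.Mrg.Omega.NO3b.K0.Main
import Cfsg.Agent.Mrg.Omega.IId.KOne
import Cfsg.Agent.Mrg.Omega.NO3b.Wc.Frame
import Cfsg.Agent.Mrg.Omega.NOne.Flat.OffMod
import Cfsg.Agent.Mrg.Omega.NO3b.K0.FullOff
import Cfsg.Agent.Mrg.Omega.NOne.Flat.Off
import Cfsg.Agent.Mrg.Omega.NOne.LemmaT

section


/-!
# The union text for NotFF (helper1, #15791; referee #15980), parts (2)-(5)

* `Alpha.ti` : **(2)** two conjugates of `V` which meet nontrivially commute;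
* `InvU.exists_cj` : `D ≤ V ∩ V^g` ⟹ `V^g = V^c`, `c ∈ C_G(D)`;
* `Sit S P M F X` : `F ≤ V` is maximal with `C_G(F) ≰ N_G(V)`, `T = C_S(F)` is Sylow in `C_M(F)`, `X` is minimal
  with `T ≤ X ≤ C_G(F)`, `X ≰ N_G(V)`; `Alpha.exists_sit`;
* `Sit.base` : **(3)** the abstract situation of K0 if `⟨L, X⟩` is nonlocal, `L = N_G(V) ∩ N_G(C_S(V)) ≥ P`;
* `Sit.absurd` : **(4)** K0 kills ALPHA if moreover `C_U(T) ≤ C(O²(X))`, `U = ⟨V^X⟩`;
* `Sit.first` : **(5)**.
-/

set_option autoImplicit false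
set_option linter.unusedSectionVars false

namespace Cfsg.Agent.Omega.NO3b.Union

open Subgroup Cfsg Cfsg.Agent.ZN Cfsg.Agent.ZN.ChoiceBase Cfsg.Agent.Omega.MinPar Cfsg.Agent.Omega.Frame
open Cfsg.Agent.Omega.NO1 Cfsg.Agent.Omega.NO1.JMin
open Cfsg.Agent.ZN.ChoiceSit (Syl syl_conj exists_syl o2_le_syl o2_cj)
open Cfsg.Agent.Omega.NO3b.EZero (NotFF)
open Cfsg.Agent.Omega.NO3b.K0 (Base)
open Cfsg.Agent.MinSimple.MinParabolic (IsMinPar)
open Cfsg.Agent.MinSimple.VModule (oddGen)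

universe u

variable {G : Type u} [Group G] [Finite G] {S : Sylow 2 G} {P M F X : Subgroup G}

/-- **(2)** TI -/
theorem Alpha.ti (a : Alpha S P M) {g : G}
    (hne : zl (S : Subgroup G) M ⊓ cj g (zl (S : Subgroup G) M) ≠ ⊥) :
    zl (S : Subgroup G) M ≤ centralizer ((cj g (zl (S : Subgroup G) M) : Subgroup G) : Set G) := by
  set V := zl (S : Subgroup G) M with hV
  set D := V ⊓ cj g V with hD
  have hN : M ≤ normalizer (V : Set G) := Union.M_le a.inv.toInv
  have hD' : cj g⁻¹ D ≤ V := by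
    have := cj_mono g⁻¹ (inf_le_right : D ≤ cj g V)
    rwa [cj_inv_cj] at this
  have hne' : cj g⁻¹ D ≠ ⊥ := fun h0 => hne (by
    have h1 := congrArg (cj g) h0
    rwa [cj_cj_inv, cj, Subgroup.map_bot] at h1)
  have h1 : V ≤ o2 (centralizer (D : Set G)) := a.good D inf_le_left hne
  have h2 : o2 (centralizer (D : Set G)) ≤ normalizer (V : Set G) :=
    (a.inv.toInv.o2_le (inf_le_left : D ≤ V)).trans hN
  have e : cj g (o2 (centralizer ((cj g⁻¹ D : Subgroup G) : Set G))) = o2 (centralizer (D : Set G)) := by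
    rw [← o2_cj, cj_centralizer, cj_cj_inv]
  have h3 : cj g V ≤ o2 (centralizer (D : Set G)) := by
    rw [← e]
    exact cj_mono g (a.good _ hD' hne')
  have h4 : o2 (centralizer (D : Set G)) ≤ normalizer ((cj g V : Subgroup G) : Set G) := by
    rw [← e, ← cj_normalizer]
    exact cj_mono g ((a.inv.toInv.o2_le hD').trans hN)
  refine EZero.comm_of_norm a.nff (a.nff.cj g) (Union.V_sq a.inv.toInv) ?_ (Union.V_comm a.inv.toInv)
    (EZero.cj_cent (Union.V_comm a.inv.toInv)) (h1.trans h4) (h3.trans h2)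
  intro b hb
  have h5 := Union.V_sq a.inv.toInv _ (mem_cj.1 hb)
  have e1 : (g⁻¹ * b * g) ^ 2 = g⁻¹ * b ^ 2 * g := by rw [pow_two, pow_two]; group
  rw [e1] at h5
  have h6 : b ^ 2 = g * (g⁻¹ * b ^ 2 * g) * g⁻¹ := by group
  rw [h6, h5]; group

/-- `V` depends only on `T`: a line through `D ≤ V` is a `C_G(D)`-conjugate of `V`. -/
theorem InvU.exists_cj (h : InvU (S : Subgroup G) P M) {D : Subgroup G} (hD : D ≤ zl (S : Subgroup G) M) {g : G}
    (hg : D ≤ cj g (zl (S : Subgroup G) M)) :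
    ∃ c ∈ centralizer (D : Set G), cj g (zl (S : Subgroup G) M) = cj c (zl (S : Subgroup G) M) := by
  set V := zl (S : Subgroup G) M with hV
  have hD' : cj g⁻¹ D ≤ V := by
    have := cj_mono g⁻¹ hg
    rwa [cj_inv_cj] at this
  obtain ⟨T, hT⟩ := exists_syl_of (M ⊓ centralizer (D : Set G))
  obtain ⟨T', hT'⟩ := exists_syl_of (M ⊓ centralizer ((cj g⁻¹ D : Subgroup G) : Set G))
  obtain ⟨m, hm, e1, -⟩ := h.toInv.exists_conj hT
  obtain ⟨m', hm', e2, -⟩ := h.toInv.exists_conj hT'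
  have h1 : Syl T (centralizer (D : Set G)) := h.toInv.syl hD hT
  have h2 : Syl (cj g T') (centralizer (D : Set G)) := by
    have := syl_cj (h.toInv.syl hD' hT') g
    rwa [cj_centralizer, cj_cj_inv] at this
  obtain ⟨c, hc, hcT⟩ := syl_conj h1 h2
  refine ⟨c, hc, ?_⟩
  -- `a = m' g⁻¹ c m⁻¹` moves `T₁ = T^m` to `T₂ = T'^m'`
  have hVm : cj m V = V := cj_eq_of_mem_normalizer (MinSimple.VModule.le_normalizer_zl _ M hm)
  have hVm' : cj m' V = V := cj_eq_of_mem_normalizer (MinSimple.VModule.le_normalizer_zl _ M hm')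
  have e3 : cj (m' * g⁻¹ * c * m⁻¹) (cj m T) = cj m' T' := by
    have e4 : m' * g⁻¹ * c * m⁻¹ = (m' * g⁻¹) * (c * m⁻¹) := by group
    rw [e4, ← cj_cj, ← cj_cj c, cj_inv_cj, hcT, cj_cj]
    congr 1
    group
  have hDm : cj m D ≤ V := (cj_mono m hD).trans hVm.le
  have hDm' : cj m' (cj g⁻¹ D) ≤ V := (cj_mono m' hD').trans hVm'.le
  have hmem : m' * g⁻¹ * c * m⁻¹ ∈ M := by
    refine h.U _ (cj m' T') ?_ ?_ ?_ ?_
    · rw [e2]
      exact inf_le_inf_left _ (centralizer_le hDm')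
    · rw [e2]
      exact inf_le_left
    · rw [← e3]
      refine cj_mono _ ?_
      rw [e1]
      exact inf_le_inf_left _ (centralizer_le hDm)
    · rw [← e3]
      refine cj_mono _ ?_
      rw [e1]
      exact inf_le_left
  have hgc : g⁻¹ * c ∈ M := by
    have h5 := mul_mem (mul_mem (inv_mem hm') hmem) hm
    have e5 : m'⁻¹ * (m' * g⁻¹ * c * m⁻¹) * m = g⁻¹ * c := by group
    rwa [e5] at h5
  rw [eq_comm, EZero.cj_eq_cj_iff]
  exact MinSimple.VModule.le_normalizer_zl _ M hgc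

/-- `L = N_G(V) ∩ N_G(C_S(V))` -/
def LL (S M : Subgroup G) : Subgroup G :=
  normalizer (zl S M : Set G) ⊓ normalizer ((S ⊓ centralizer (zl S M : Set G) : Subgroup G) : Set G)

/-- The situation of (3). -/
structure Sit (S : Sylow 2 G) (P M F X : Subgroup G) : Prop where
  alpha : Alpha S P M
  F_le : F ≤ zl (S : Subgroup G) M
  F_ne_bot : F ≠ ⊥
  nle : ¬ centralizer (F : Set G) ≤ normalizer (zl (S : Subgroup G) M : Set G)
  max : ∀ D : Subgroup G, F ≤ D → D ≤ zl (S : Subgroup G) M →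
    ¬ centralizer (D : Set G) ≤ normalizer (zl (S : Subgroup G) M : Set G) → D = F
  syl : Syl ((S : Subgroup G) ⊓ centralizer (F : Set G)) (M ⊓ centralizer (F : Set G))
  T_le_X : (S : Subgroup G) ⊓ centralizer (F : Set G) ≤ X
  X_le : X ≤ centralizer (F : Set G)
  X_nle : ¬ X ≤ normalizer (zl (S : Subgroup G) M : Set G)
  X_min : ∀ Y : Subgroup G, (S : Subgroup G) ⊓ centralizer (F : Set G) ≤ Y → Y ≤ X →
    ¬ Y ≤ normalizer (zl (S : Subgroup G) M : Set G) → Y = X

/-- Every `F₀ ≤ V`, `F₀ ≠ 1`, `C_G(F₀) ≰ N_G(V)`, lies up to an element of `M` in the `F` of a situation. -/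
theorem Alpha.exists_sit (a : Alpha S P M) {F₀ : Subgroup G} (h1 : F₀ ≤ zl (S : Subgroup G) M) (h2 : F₀ ≠ ⊥)
    (h3 : ¬ centralizer (F₀ : Set G) ≤ normalizer (zl (S : Subgroup G) M : Set G)) :
    ∃ m ∈ M, ∃ F X : Subgroup G, cj m F₀ ≤ F ∧ Sit S P M F X := by
  obtain ⟨F₁, hF1, hF2⟩ := Set.Finite.exists_le_maximal (Set.toFinite {F : Subgroup G |
    F ≤ zl (S : Subgroup G) M ∧ ¬ centralizer (F : Set G) ≤ normalizer (zl (S : Subgroup G) M : Set G)}) ⟨h1, h3⟩
  obtain ⟨T, hT⟩ := exists_syl_of (M ⊓ centralizer (F₁ : Set G))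
  obtain ⟨m, hm, e1, hs⟩ := a.inv.toInv.exists_conj hT
  have hmN := MinSimple.VModule.le_normalizer_zl (S : Subgroup G) M hm
  have hV := cj_eq_of_mem_normalizer hmN
  have hV' := cj_eq_of_mem_normalizer (inv_mem hmN)
  have hN : cj m (normalizer (zl (S : Subgroup G) M : Set G)) = normalizer (zl (S : Subgroup G) M : Set G) := by
    rw [cj_normalizer, hV]
  have hFV : cj m F₁ ≤ zl (S : Subgroup G) M := (cj_mono m hF2.1.1).trans hV.le
  have hFn : ¬ centralizer ((cj m F₁ : Subgroup G) : Set G) ≤ normalizer (zl (S : Subgroup G) M : Set G) := by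
    rw [← cj_centralizer, ← hN]
    exact fun h0 => hF2.1.2 (by
      have := cj_mono m⁻¹ h0
      rwa [cj_inv_cj, cj_inv_cj] at this)
  obtain ⟨X, -, hX⟩ := Set.Finite.exists_le_minimal (Set.toFinite {X : Subgroup G |
    (S : Subgroup G) ⊓ centralizer ((cj m F₁ : Subgroup G) : Set G) ≤ X ∧
      X ≤ centralizer ((cj m F₁ : Subgroup G) : Set G) ∧ ¬ X ≤ normalizer (zl (S : Subgroup G) M : Set G)})
    ⟨inf_le_right, le_rfl, hFn⟩
  refine ⟨m, hm, cj m F₁, X, cj_mono m hF1, a, hFV, ?_, hFn, ?_, hs, hX.1.1, hX.1.2.1, hX.1.2.2, ?_⟩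
  · intro h0
    apply h2
    have h4 : F₁ = ⊥ := by
      have := congrArg (cj m⁻¹) h0
      rwa [cj_inv_cj, cj, Subgroup.map_bot] at this
    exact le_bot_iff.1 (h4 ▸ hF1)
  · intro D hFD hDV hDn
    have h4 : F₁ ≤ cj m⁻¹ D := by rwa [← cj_le_iff]
    have h5 : ¬ centralizer ((cj m⁻¹ D : Subgroup G) : Set G) ≤ normalizer (zl (S : Subgroup G) M : Set G) := by
      intro h0
      apply hDn
      have := cj_mono m h0
      rwa [cj_centralizer, cj_cj_inv, hN] at this
    have h6 := hF2.2 ⟨(cj_mono m⁻¹ hDV).trans hV'.le, h5⟩ h4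
    have h7 := cj_mono m h6
    rw [cj_cj_inv] at h7
    exact le_antisymm h7 hFD
  · intro Y hY1 hY2 hY3
    exact le_antisymm hY2 (hX.2 ⟨hY1, hY2.trans hX.1.2.1, hY3⟩ hY2)

/-- `F ≥ Z` can be chosen. -/
theorem Alpha.exists_sit_Z (a : Alpha S P M) (hZ : zc (S : Subgroup G) ≠ ⊥)
    (hn : ¬ centralizer (zc (S : Subgroup G) : Set G) ≤ normalizer (zl (S : Subgroup G) M : Set G)) :
    ∃ F X : Subgroup G, zc (S : Subgroup G) ≤ F ∧ Sit S P M F X := by
  obtain ⟨F₁, hF1, hF2⟩ := Set.Finite.exists_le_maximal (Set.toFinite {F : Subgroup G |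
    F ≤ zl (S : Subgroup G) M ∧ ¬ centralizer (F : Set G) ≤ normalizer (zl (S : Subgroup G) M : Set G)})
    ⟨Union.Z_le a.inv.toInv, hn⟩
  obtain ⟨T, hT⟩ := exists_syl_of (M ⊓ centralizer (F₁ : Set G))
  -- `S` is Sylow in `C_M(Z) ≥ T`
  have hSZ : (S : Subgroup G) ≤ M ⊓ centralizer (zc (S : Subgroup G) : Set G) :=
    le_inf a.inv.SM (le_centralizer_zc _)
  obtain ⟨m, hm, hmS⟩ := exists_conj_le hSZ hT.2.1 (hT.1.trans (inf_le_inf_left _ (centralizer_le hF1)))
  have hmN := MinSimple.VModule.le_normalizer_zl (S : Subgroup G) M hm.1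
  have hV := cj_eq_of_mem_normalizer hmN
  have hV' := cj_eq_of_mem_normalizer (inv_mem hmN)
  have hM : cj m M = M := cj_eq_of_mem_normalizer (le_normalizer hm.1)
  have hN : cj m (normalizer (zl (S : Subgroup G) M : Set G)) = normalizer (zl (S : Subgroup G) M : Set G) := by
    rw [cj_normalizer, hV]
  have hZm : cj m (zc (S : Subgroup G)) = zc (S : Subgroup G) :=
    cj_eq_of_mem_normalizer (centralizer_le_normalizer _ hm.2)
  have hFV : cj m F₁ ≤ zl (S : Subgroup G) M := (cj_mono m hF2.1.1).trans hV.le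
  have hFn : ¬ centralizer ((cj m F₁ : Subgroup G) : Set G) ≤ normalizer (zl (S : Subgroup G) M : Set G) := by
    rw [← cj_centralizer, ← hN]
    exact fun h0 => hF2.1.2 (by
      have := cj_mono m⁻¹ h0
      rwa [cj_inv_cj, cj_inv_cj] at this)
  have hs : Syl ((S : Subgroup G) ⊓ centralizer ((cj m F₁ : Subgroup G) : Set G))
      (M ⊓ centralizer ((cj m F₁ : Subgroup G) : Set G)) := by
    have h1 := syl_cj hT m
    rw [cj_inf, hM, cj_centralizer] at h1
    have h2 : cj m T = (S : Subgroup G) ⊓ centralizer ((cj m F₁ : Subgroup G) : Set G) :=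
      (h1.2.2 _ (inf_le_inf_right _ a.inv.SM) (S.isPGroup'.to_le inf_le_left)
        (le_inf hmS (h1.1.trans inf_le_right))).symm
    exact h2 ▸ h1
  have hZF : zc (S : Subgroup G) ≤ cj m F₁ := by
    rw [← hZm]
    exact cj_mono m hF1
  obtain ⟨X, -, hX⟩ := Set.Finite.exists_le_minimal (Set.toFinite {X : Subgroup G |
    (S : Subgroup G) ⊓ centralizer ((cj m F₁ : Subgroup G) : Set G) ≤ X ∧
      X ≤ centralizer ((cj m F₁ : Subgroup G) : Set G) ∧ ¬ X ≤ normalizer (zl (S : Subgroup G) M : Set G)})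
    ⟨inf_le_right, le_rfl, hFn⟩
  refine ⟨cj m F₁, X, hZF, a, hFV, fun h0 => hZ (le_bot_iff.1 (h0 ▸ hZF)), hFn, ?_, hs, hX.1.1, hX.1.2.1,
    hX.1.2.2, ?_⟩
  · intro D hFD hDV hDn
    have h4 : F₁ ≤ cj m⁻¹ D := by rwa [← cj_le_iff]
    have h5 : ¬ centralizer ((cj m⁻¹ D : Subgroup G) : Set G) ≤ normalizer (zl (S : Subgroup G) M : Set G) := by
      intro h0
      apply hDn
      have := cj_mono m h0
      rwa [cj_centralizer, cj_cj_inv, hN] at this
    have h6 := hF2.2 ⟨(cj_mono m⁻¹ hDV).trans hV'.le, h5⟩ h4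
    have h7 := cj_mono m h6
    rw [cj_cj_inv] at h7
    exact le_antisymm h7 hFD
  · intro Y hY1 hY2 hY3
    exact le_antisymm hY2 (hX.2 ⟨hY1, hY2.trans hX.1.2.1, hY3⟩ hY2)

namespace Sit

variable (s : Sit S P M F X)
include s

theorem M_le : M ≤ normalizer (zl (S : Subgroup G) M : Set G) := Union.M_le s.alpha.inv.toInv

/-- `T` is Sylow in `C_G(F)` -/
theorem syl_cent : Syl ((S : Subgroup G) ⊓ centralizer (F : Set G)) (centralizer (F : Set G)) :=
  s.alpha.inv.toInv.syl_base s.F_le s.syl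

theorem sylX : Syl ((S : Subgroup G) ⊓ centralizer (F : Set G)) X :=
  IId.KOne.syl_le s.syl_cent s.T_le_X s.X_le

theorem Q0_le : (S : Subgroup G) ⊓ centralizer (zl (S : Subgroup G) M : Set G) ≤
    (S : Subgroup G) ⊓ centralizer (F : Set G) := inf_le_inf_left _ (centralizer_le s.F_le)

/-- `N_G(T) ≤ M` -/
theorem normalizer_le : normalizer (((S : Subgroup G) ⊓ centralizer (F : Set G) : Subgroup G) : Set G) ≤ M :=
  s.alpha.inv.toInv.J _ s.Q0_le inf_le_left

theorem mp : IsMinPar ((S : Subgroup G) ⊓ centralizer (F : Set G)) X where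
  le := s.T_le_X
  not_le := fun h => s.X_nle ((h.trans s.normalizer_le).trans s.M_le)
  exists_max := by
    refine ⟨X ⊓ normalizer (zl (S : Subgroup G) M : Set G), lt_of_le_of_ne inf_le_left fun h =>
      s.X_nle (h ▸ inf_le_right), fun K hK hKX => le_inf hKX.le ?_⟩
    by_contra hcon
    exact hKX.ne (s.X_min K hK hKX.le hcon)

/-- **(3)** LINE -/
theorem line {x : G} (hx : x ∈ X) (hxN : x ∉ normalizer (zl (S : Subgroup G) M : Set G)) :
    zl (S : Subgroup G) M ⊓ cj x (zl (S : Subgroup G) M) = F := by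
  have hF : F ≤ zl (S : Subgroup G) M ⊓ cj x (zl (S : Subgroup G) M) := by
    refine le_inf s.F_le ?_
    have h1 := cj_mono x s.F_le
    have h2 : cj x F = F := by
      have h3 : x ∈ normalizer (F : Set G) := centralizer_le_normalizer _ (s.X_le hx)
      exact cj_eq_of_mem_normalizer h3
    rwa [h2] at h1
  refine s.max _ hF inf_le_left fun hle => hxN ?_
  obtain ⟨c, hc, e⟩ := s.alpha.inv.exists_cj
    (inf_le_left : zl (S : Subgroup G) M ⊓ cj x (zl (S : Subgroup G) M) ≤ zl (S : Subgroup G) M) (g := x) inf_le_right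
  rw [mem_normalizer_iff_cj, e]
  exact cj_eq_of_mem_normalizer (hle hc)

theorem F_ne : F ≠ zl (S : Subgroup G) M := by
  intro h
  apply s.nle
  rw [h]
  exact centralizer_le_normalizer _

theorem syl_Q0 : Syl ((S : Subgroup G) ⊓ centralizer (zl (S : Subgroup G) M : Set G))
    (centralizer (zl (S : Subgroup G) M : Set G)) := by
  have hS : Syl (S : Subgroup G) (normalizer (zl (S : Subgroup G) M : Set G)) :=
    ⟨s.alpha.inv.SM.trans s.M_le, S.isPGroup', fun Q _ hQ hSQ => S.is_maximal' hQ hSQ⟩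
  refine IId.KOne.syl_inf hS (centralizer_le_normalizer _) fun g hg n hn => IId.KOne.conj_cent hg hn

/-- **(3)**: the abstract situation of K0. -/
theorem base (hloc : NonLoc (LL (S : Subgroup G) M) X) :
    Base (zl (S : Subgroup G) M) F ((S : Subgroup G) ⊓ centralizer (F : Set G)) X (LL (S : Subgroup G) M)
      ((S : Subgroup G) ⊓ centralizer (zl (S : Subgroup G) M : Set G)) where
  sq := Union.V_sq s.alpha.inv.toInv
  comm := Union.V_comm s.alpha.inv.toInv
  nff := s.alpha.nff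
  F_le := s.F_le
  F_ne := s.F_ne
  F_ne_bot := s.F_ne_bot
  X_le := s.X_le
  syl := s.sylX
  mp := s.mp
  nle := s.X_nle
  T_le := by
    refine inf_le_left.trans (le_inf (s.alpha.inv.SM.trans s.M_le) ?_)
    intro x hx
    have hx' := s.M_le (s.alpha.inv.SM hx)
    rw [mem_normalizer_iff_cj, cj_inf, cj_centralizer, cj_eq_of_mem_normalizer hx',
      cj_eq_of_mem_normalizer (le_normalizer hx)]
  L_le := inf_le_left
  Q0_le := s.Q0_le
  L_Q0 := inf_le_right
  Q0_cent := inf_le_right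
  le_Q0 := by
    intro R hR hRL hRC
    have h1 : IsPGroup 2 (((S : Subgroup G) ⊓ centralizer (zl (S : Subgroup G) M : Set G)) ⊔ R : Subgroup G) :=
      IsPGroup.to_sup_of_normal_left' (S.isPGroup'.to_le inf_le_left) hR (hRL.trans inf_le_right)
    have h2 := s.syl_Q0.2.2 _ (sup_le inf_le_right hRC) h1 le_sup_left
    rw [← h2]
    exact le_sup_right
  V_le := le_inf (Union.V_le_S s.alpha.inv.toInv) (Union.V_comm s.alpha.inv.toInv)
  line := fun _ hx hxN => s.line hx hxN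
  ti := fun _ hne => s.alpha.ti hne
  nonloc := hloc

/-- **`P ≤ L`** -/
theorem P_le (h : Cf S P) : P ≤ LL (S : Subgroup G) M := by
  have hPN : P ≤ normalizer (zl (S : Subgroup G) M : Set G) := s.alpha.inv.PM.trans s.M_le
  refine le_inf hPN fun x hx => ?_
  have e : (S : Subgroup G) ⊓ centralizer (zl (S : Subgroup G) M : Set G) =
      o2 P ⊓ centralizer (zl (S : Subgroup G) M : Set G) := by
    rw [← h.S_inf_centralizer, inf_assoc]
    congr 1
    exact (inf_eq_right.2 (centralizer_le (Union.VP_le s.alpha.inv.toInv))).symm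
  rw [e, mem_normalizer_iff_cj, cj_inf, cj_centralizer, cj_eq_of_mem_normalizer (hPN hx),
    cj_eq_of_mem_normalizer (MinSimple.VModule.le_normalizer_o2 P hx)]

end Sit

/-- **(4)** K0 kills ALPHA in the nonlocal case, given `C_U(T) ≤ C(O²(X))`. -/
theorem Sit.absurd (s : Sit S P M F X) (hov : K0.NoOv X)
    (hfull : K0.FullOff ((S : Subgroup G) ⊓ centralizer (F : Set G)) X) (hloc : NonLoc (LL (S : Subgroup G) M) X)
    (hcen : EZero.cl (zl (S : Subgroup G) M) X ⊓
      centralizer (((S : Subgroup G) ⊓ centralizer (F : Set G) : Subgroup G) : Set G) ≤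
        centralizer (oddGen X : Set G)) : False :=
  (s.base hloc).absurd hov hfull hcen

/-- (CEN) for `F = Z` -/
theorem Sit.cen_of_Z (s : Sit S P M F X) (hF : F = zc (S : Subgroup G)) (hloc : NonLoc (LL (S : Subgroup G) M) X) :
    EZero.cl (zl (S : Subgroup G) M) X ⊓
      centralizer (((S : Subgroup G) ⊓ centralizer (F : Set G) : Subgroup G) : Set G) ≤
        centralizer (oddGen X : Set G) := by
  have hT : (S : Subgroup G) ⊓ centralizer (F : Set G) = S := by
    rw [inf_eq_left, hF]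
    exact le_centralizer_zc _
  intro y hy
  rw [hT] at hy
  have hyS : y ∈ (S : Subgroup G) := (o2_le_syl s.sylX ((s.base hloc).U_le_o2 hy.1)).1
  have h1 : y ∈ F := by
    rw [hF]
    exact mem_zc.2 ⟨hyS, (s.base hloc).U_sq y hy.1, hy.2⟩
  rw [mem_centralizer_iff]
  intro x hx
  exact (mem_centralizer_iff.1 (s.X_le (MinSimple.VModule.oddGen_le X hx)) y h1).symm

/-- **(5)**: the first member of the chain which does not contain `X`. -/
theorem Sit.first (s : Sit S P M F X) (c : Ch (S : Subgroup G) P (Fam (S : Subgroup G)) M) :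
    ¬ X ≤ normalizer (jj (S : Subgroup G) : Set G) ∨
      ∃ (M' : Subgroup G) (SS : Set (Subgroup G)), Ch (S : Subgroup G) P (Fam (S : Subgroup G)) M' ∧
        Fam (S : Subgroup G) M' SS ∧ (∀ Y ∈ SS, Y ≤ S → Y ≤ o2 P) ∧
        M ≤ M' ⊓ normalizer (KK (S : Subgroup G) M' SS : Set G) ∧ X ≤ M' ∧
        KK (S : Subgroup G) M' SS ≤ (S : Subgroup G) ⊓ centralizer (zl (S : Subgroup G) M : Set G) ∧
        ¬ KK (S : Subgroup G) M' SS ≤ o2 X := by
  have hX : ¬ X ≤ M := fun h => s.X_nle (h.trans s.M_le)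
  rcases c.exists_first hX with h | ⟨M', SS, c', hF, hSS, hle, hMM, hXM, hn⟩
  · exact Or.inl h
  · exact Or.inr ⟨M', SS, c', hF, hle, hMM, hXM, KK_le_of_le hMM,
      not_KK_le hSS hXM ((o2_le_syl s.sylX).trans inf_le_left) hn⟩

end Cfsg.Agent.Omega.NO3b.Union

end

section


/-!
# The w.c. frame (#16346 (B), helper672), part (v), for an arbitrary group `L` in place of `P`

`Root S L` (`Wc/Frame.lean`), `V_L ≤ O₂(C_G(Ω₁(Z(S))))`, `V = ⟨Ω₁(Z(S))^M⟩`, `M = N_G(W^)`.

* `StmtOff G` : THEOREM OFF (socket; `|V : E| = 2` is `Flat.off_two`);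
* `Root.invU` : the invariant of helper1's union text (`Union.InvU S L M`);
* `Root.good` : **(v)**: no `1 ≠ F ≤ V` is bad: `V ≤ O₂(C_G(F))`;
* `Root.alpha` : `Union.Alpha S L M`, so that the situations `Union.Sit` (lines `V ∩ V^x = F`, K0) are available;
* `Root.low`, `Root.lines'` : `V ≤ O₂(C_G(Ω₁(Z(S))))` and helper25's `NoEmp.Lines S W^ V`.
-/

set_option autoImplicit false

namespace Cfsg.Agent.Omega.NO3b.Wc

open Subgroup Cfsg
open Cfsg.Agent.ZN (o2 zc zl jj zj)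
open Cfsg.Agent.ZN.ChoiceBase hiding mem_zc
open Cfsg.Agent.Omega.MinPar Cfsg.Agent.Omega.Frame
open Cfsg.Agent.Omega.NO3b.EZero (NotFF)
open Cfsg.Agent.Omega.FFThm (ElemM OffM)
open Cfsg.Agent.Omega.NOne.Flat (Bad EE WW)
open Cfsg.Agent.Omega.NO3b.Union (badFam badFam_cj card_lt not_WW_le)
open Cfsg.Agent.MinSimple.VModule (le_normalizer_zl le_normalizer_o2 o2_isPGroup le_o2)

universe u

variable {G : Type u} [Group G]

/-- THEOREM OFF. -/
def StmtOff (G : Type u) [Group G] : Prop := ∀ V F : Subgroup G, NOne.Flat.Hyp V F →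
  ∀ E0 : Subgroup G, F ≤ E0 → E0 ≤ EE V F →
    F.relIndex E0 ≤ (centralizer (E0 : Set G)).relIndex (WW V F)

/-- `O₂(X) ∩ Y ≤ O₂(Y)` for `Y ≤ X`. -/
theorem o2_inf_le {X Y : Subgroup G} (hYX : Y ≤ X) : o2 X ⊓ Y ≤ o2 Y := by
  refine le_o2 inf_le_right ((o2_isPGroup X).to_le inf_le_left) ?_
  intro y hy
  rw [mem_normalizer_iff_cj, cj_inf, cj_eq_of_mem_normalizer (le_normalizer_o2 X (hYX hy)),
    cj_eq_of_mem_normalizer (Subgroup.le_normalizer hy)]

namespace Root

variable [Finite G] {S : Sylow 2 G} {L : Subgroup G} (h : Root S L)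
include h

/-- The invariant of the union text. -/
theorem invU : Union.InvU (S : Subgroup G) L (ML (S : Subgroup G) L) where
  SM := h.S_le
  PM := h.L_le
  el := PLocal.ThompsonJ.isElementaryAbelian_iff.2
    ⟨fun _ ha _ hb => mem_centralizer_iff.1 (h.V_comm hb) _ ha, h.V_sq⟩
  J := fun T h1 h2 => norm_le (h.cs_V.ge.trans h1) h2
  U := fun g T h1 h2 h3 _ => mem_ML_of_le (by
    have h4 := (cj_mono g h.cs_V.ge).trans (h3.trans h2)
    exact h4)

/-- No offender on `V_L` in module form. -/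
theorem not_offM {A : Subgroup G} (hA : A ≤ (S : Subgroup G)) : ¬ OffM (zl (S : Subgroup G) L) A := by
  intro hoff
  have h3 := h.nff A (S.isPGroup'.to_le hA) (hA.trans (h.le.trans (le_normalizer_zl _ _))) hoff.sq hoff.comm
    hoff.ne
  exact absurd (FFThm.relIndex_le_iff.1 hoff.le) (not_le.2 h3)

theorem V_two : IsPGroup 2 (VL (S : Subgroup G) L : Subgroup G) := NO3b.NoEmp.pgroup_of_sq h.V_sq

/-- The hypotheses of THEOREM FLAT. -/
theorem flatHyp (hc : IsCharacteristicTwoType G) {F : Subgroup G} (hF : Bad (VL (S : Subgroup G) L) F)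
    (hmax : ∀ D : Subgroup G, Bad (VL (S : Subgroup G) L) D → F ≤ D → D = F) :
    NOne.Flat.Hyp (VL (S : Subgroup G) L) F :=
  Union.flatHyp hc h.invU h.V_nff hF hmax

/-- **(v)**, BETA: there is no bad subgroup. -/
theorem not_bad (hc : IsCharacteristicTwoType G) (hoff : StmtOff G)
    (hz : zl (S : Subgroup G) L ≤ o2 (centralizer (zc (S : Subgroup G) : Set G))) (F₀ : Subgroup G) :
    ¬ Bad (VL (S : Subgroup G) L) F₀ := by
  intro hF₀
  obtain ⟨F, -, hF, hmax⟩ : ∃ F, F₀ ≤ F ∧ Bad (VL (S : Subgroup G) L) F ∧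
      ∀ D : Subgroup G, Bad (VL (S : Subgroup G) L) D → F ≤ D → D = F := by
    obtain ⟨F, hF1, hF2⟩ := Set.Finite.exists_le_maximal
      (Set.toFinite {F : Subgroup G | Bad (VL (S : Subgroup G) L) F}) hF₀
    exact ⟨F, hF1, hF2.1, fun D hD hle => le_antisymm (hF2.2 hD hle) hle⟩
  have hfl := h.flatHyp hc hF hmax
  have hWM : WW (VL (S : Subgroup G) L) F ≤ ML (S : Subgroup G) L :=
    NOne.Flat.Hyp.W_le_R.trans (h.o2_cent_le hF.le)
  have hW2 : IsPGroup 2 (WW (VL (S : Subgroup G) L) F : Subgroup G) :=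
    (o2_isPGroup _).to_le NOne.Flat.Hyp.W_le_R
  obtain ⟨m, hm, hmW⟩ := h.exists_conj_le hW2 hWM
  have hmN := ML_le_norm_V (S : Subgroup G) L hm
  obtain ⟨X, ⟨F', hF', hmax', rfl⟩, hXS, hXL⟩ := h.principle (F := badFam (VL (S : Subgroup G) L))
    (fun A hA n hn => badFam_cj (ML_le_norm_V (S : Subgroup G) L hn) hA)
    (badFam_cj hmN ⟨F, hF, hmax, rfl⟩) hmW (fun h1 => not_WW_le hfl (by
        rw [cj_le_iff, cj_centralizer, cj_eq_of_mem_normalizer (inv_mem hmN)] at h1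
        exact h1))
  have hfl' := h.flatHyp hc hF' hmax'
  -- `Z ≤ F'`
  have hZF : zc (S : Subgroup G) ≤ F' := by
    rw [← hfl'.cent_VW]
    refine le_inf zc_le_V ?_
    rw [Subgroup.le_centralizer_iff]
    exact hXS.trans (MinSimple.VModule.le_centralizer_zc _)
  -- `V_L ≤ E`
  have hE : zl (S : Subgroup G) L ≤ EE (VL (S : Subgroup G) L) F' := by
    refine le_inf h.zl_le_V ((le_inf hz ?_).trans (o2_inf_le (centralizer_le hZF)))
    exact h.zl_le_V.trans (h.V_comm.trans (centralizer_le hF'.le))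
  exact hXL (hfl'.cent_of_le_EE (hoff _ _ hfl') (h.not_offM hXS) hE).1

/-- **(v)** -/
theorem good (hc : IsCharacteristicTwoType G) (hoff : StmtOff G)
    (hz : zl (S : Subgroup G) L ≤ o2 (centralizer (zc (S : Subgroup G) : Set G))) {F : Subgroup G}
    (hF : F ≤ VL (S : Subgroup G) L) (hF1 : F ≠ ⊥) :
    VL (S : Subgroup G) L ≤ o2 (centralizer (F : Set G)) := by
  by_contra hcon
  exact h.not_bad hc hoff hz F ⟨hF1, hF, hcon⟩

/-- ALPHA of the union text. -/
theorem alpha (hc : IsCharacteristicTwoType G) (hoff : StmtOff G)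
    (hz : zl (S : Subgroup G) L ≤ o2 (centralizer (zc (S : Subgroup G) : Set G))) :
    Union.Alpha S L (ML (S : Subgroup G) L) :=
  ⟨h.invU, h.V_nff, fun _ hF hF1 => h.good hc hoff hz hF hF1⟩

/-- `V ≤ O₂(C_G(Z))` -/
theorem low (hc : IsCharacteristicTwoType G) (hoff : StmtOff G)
    (hz : zl (S : Subgroup G) L ≤ o2 (centralizer (zc (S : Subgroup G) : Set G)))
    (hne : zc (S : Subgroup G) ≠ ⊥) :
    VL (S : Subgroup G) L ≤ o2 (centralizer (zc (S : Subgroup G) : Set G)) :=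
  h.good hc hoff hz zc_le_V hne

/-- The frame of helper25's `NoEmp.lean`. -/
theorem lines' (hc : IsCharacteristicTwoType G) (hoff : StmtOff G)
    (hz : zl (S : Subgroup G) L ≤ o2 (centralizer (zc (S : Subgroup G) : Set G)))
    (hne : zc (S : Subgroup G) ≠ ⊥) :
    NoEmp.Lines S (WH (S : Subgroup G) L) (VL (S : Subgroup G) L) :=
  h.lines (h.low hc hoff hz hne)

end Root

end Cfsg.Agent.Omega.NO3b.Wc

end

section


/-!
# The local exit of NotFF, `V` maximal (#17095 (1), (2), helper58; #17287, helper37)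

`S` a Sylow 2-subgroup, `L` in the role of `P` (`Wc.Root S L`), `G` of characteristic 2 type.

* `Adm S L B` : `B ≤ C_S(V_L)` is weakly closed in `S`, `V = zl S (N_G(B))` is elementary abelian, not FF,
  `C_S(V) = B`, `V ≤ O₂(C_G(Z))`, `Z = Ω₁(Z(S))`;
* `Adm.of_root`, `Adm.lines`, `exists_min` : the w.c. frame is admissible; `NoEmp.Lines S B V`; a minimal `B`;
* `StmtOff G` (helper812's `Wc/Alt.lean`) : THEOREM OFF (#16468) as a hypothesis;
* `main` : `B` minimal, `M = N_G(B)`, `H = ⟨M, X⟩` of characteristic 2, `X` a minimal parabolic over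
  `T`, `B ≤ T ≤ S`, `X ≤ C_G(Z)`, `X ≰ N_G(V)`: a subgroup `A` of `B` with `A ≰ O₂(X)` offends on `U = ⟨V^X⟩`.
-/

set_option autoImplicit false

namespace Cfsg.Agent.Omega.NO3b.Exit

open Subgroup Cfsg
open Cfsg.Agent.ZN (o2 zc zl jj zj)
open Cfsg.Agent.ZN.ChoiceBase hiding mem_zc
open Cfsg.Agent.ZN.ChoiceSit (Syl exists_syl syl_conj o2_le_syl)
open Cfsg.Agent.Omega.NO3b.EZero (NotFF cent_symm cj_cent cj_norm cj_eq_cj_iff cl le_cl cj_le_cl cl_le
  le_normalizer_cl)
open Cfsg.Agent.Omega.FFThm (ElemM OffM NoOverM)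
open Cfsg.Agent.Omega.NOThreeL.Star (Opt Ok exists_opt)
open Cfsg.Agent.Omega.NO3b.Wc
open Cfsg.Agent.MinSimple.MinParabolic (IsMinPar)
open Cfsg.Agent.MinSimple.VModule (zc_le_zl le_normalizer_zl zl_le zc_le mem_zc le_centralizer_zc zc_sq
  le_normalizer_o2 o2_isPGroup le_o2 zc_comm normalizer_le_normalizer_zc o2_le oddGen)
open Cfsg.Agent.Omega.NOne (Flat.Hyp Flat.Bad Flat.EE Flat.WW Flat.o2_conj)
open scoped Pointwise

universe u

variable {G : Type u} [Group G]

/-- `V_B = ⟨Ω₁(Z(S))^{N_G(B)}⟩` -/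
def VB (S B : Subgroup G) : Subgroup G := zl S (normalizer (B : Set G))

/-- `B` is admissible. -/
structure Adm [Finite G] (S : Sylow 2 G) (L B : Subgroup G) : Prop where
  wc : WC (S : Subgroup G) B
  le : B ≤ QL (S : Subgroup G) L
  cs : (S : Subgroup G) ⊓ centralizer (VB (S : Subgroup G) B : Set G) = B
  comm : VB (S : Subgroup G) B ≤ centralizer (VB (S : Subgroup G) B : Set G)
  sq : ∀ v ∈ VB (S : Subgroup G) B, v ^ 2 = 1
  nff : NotFF (VB (S : Subgroup G) B)
  low : VB (S : Subgroup G) B ≤ o2 (centralizer (zc (S : Subgroup G) : Set G))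

/-- A weakly closed subgroup is normal in `S`. -/
theorem wc_S_le [Finite G] {S : Sylow 2 G} {B : Subgroup G} (h : WC (S : Subgroup G) B) :
    (S : Subgroup G) ≤ normalizer (B : Set G) := by
  intro s hs
  rw [mem_normalizer_iff_cj]
  refine h.eq s ?_
  have h1 := cj_mono s h.le
  rwa [cj_eq_of_mem_normalizer (Subgroup.le_normalizer hs)] at h1

/-- The w.c. frame is admissible. -/
theorem Adm.of_root [Finite G] {S : Sylow 2 G} {L : Subgroup G} (h : Root S L)
    (low : VL (S : Subgroup G) L ≤ o2 (centralizer (zc (S : Subgroup G) : Set G))) :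
    Adm S L (WH (S : Subgroup G) L) where
  wc := wc_WH _ _
  le := WH_le _ _
  cs := h.cs_V
  comm := h.V_comm
  sq := h.V_sq
  nff := h.V_nff
  low := low

namespace Adm

variable [Finite G] {S : Sylow 2 G} {L B : Subgroup G} (h : Adm S L B)
include h

theorem lines : NoEmp.Lines S B (VB (S : Subgroup G) B) where
  JS := h.wc.le
  wc := h.wc.eq
  NJ := le_normalizer_zl _ _
  JV := by
    have h1 := h.cs
    intro b hb
    rw [← h1] at hb
    exact hb.2
  comm := h.comm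
  sq := h.sq
  ZV := zc_le_zl _ _
  nff := h.nff
  low := h.low

end Adm

/-- a minimal admissible `B` -/
theorem exists_min [Finite G] {S : Sylow 2 G} {L B₀ : Subgroup G} (h : Adm S L B₀) :
    ∃ B, Adm S L B ∧ B ≤ B₀ ∧ ∀ B', Adm S L B' → B' ≤ B → B' = B := by
  obtain ⟨B, hB, hmin⟩ := Set.exists_min_image {B : Subgroup G | Adm S L B ∧ B ≤ B₀} (fun B => Nat.card B)
    (Set.toFinite _) ⟨B₀, h, le_rfl⟩
  exact ⟨B, hB.1, hB.2, fun B' h1 h2 => eq_of_le_of_card_ge h2 (hmin B' ⟨h1, h2.trans hB.2⟩)⟩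

/-! ### `W_F` -/

section flat

open Cfsg.Agent.Omega.NoFF.Basic (conj_conj conj_V_le conj_Z_le conj_le_iff)

theorem conj_V (g : G) (Z P : Subgroup G) : cj g (NoFF.Basic.V Z P) = NoFF.Basic.V (cj g Z) (cj g P) := by
  apply le_antisymm
  · refine conj_V_le (g := g) fun p hp => ?_
    have h1 : MulAut.conj (g * p * g⁻¹) • cj g Z ≤ NoFF.Basic.V (cj g Z) (cj g P) :=
      NoFF.Basic.Z_le_V (EZero.mem_cj_self hp)
    have e : MulAut.conj (g * p) • Z = MulAut.conj (g * p * g⁻¹) • cj g Z := by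
      change _ = MulAut.conj (g * p * g⁻¹) • (MulAut.conj g • Z)
      rw [conj_conj]
      congr 1
      group
    rwa [e]
  · refine NoFF.Basic.V_le fun q hq => ?_
    have hq' := mem_cj.1 hq
    have h1 : MulAut.conj (g * (g⁻¹ * q * g)) • Z ≤ MulAut.conj g • NoFF.Basic.V Z P := conj_Z_le hq'
    have e : MulAut.conj q • cj g Z = MulAut.conj (g * (g⁻¹ * q * g)) • Z := by
      change MulAut.conj q • (MulAut.conj g • Z) = _
      rw [conj_conj]
      congr 1
      group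
    rw [e]
    exact h1

/-- `E_{F^g} = E_F^g` for `g ∈ N(V)` -/
theorem EE_cj {V F : Subgroup G} {g : G} (hg : g ∈ normalizer (V : Set G)) :
    Flat.EE V (cj g F) = cj g (Flat.EE V F) := by
  have hV : cj g V = V := cj_eq_of_mem_normalizer hg
  have ho : cj g (o2 (centralizer (F : Set G))) = o2 (centralizer ((cj g F : Subgroup G) : Set G)) := by
    rw [← cj_centralizer]
    exact Flat.o2_conj g _
  rw [Flat.EE, Flat.EE, cj_inf, hV, ho]

/-- `W_{F^g} = W_F^g` for `g ∈ N(V)` -/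
theorem WW_cj {V F : Subgroup G} {g : G} (hg : g ∈ normalizer (V : Set G)) :
    Flat.WW V (cj g F) = cj g (Flat.WW V F) := by
  rw [Flat.WW, Flat.WW, conj_V, EE_cj hg, cj_centralizer]

/-- `F` is bad and maximal with this. -/
def MaxBad (V F : Subgroup G) : Prop := Flat.Bad V F ∧ ∀ D : Subgroup G, Flat.Bad V D → F ≤ D → D = F

theorem Bad.cj {V F : Subgroup G} (h : Flat.Bad V F) {g : G} (hg : g ∈ normalizer (V : Set G)) :
    Flat.Bad V (cj g F) := by
  have hV : ZN.ChoiceBase.cj g V = V := cj_eq_of_mem_normalizer hg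
  refine ⟨fun h0 => h.ne ?_, ?_, fun h0 => h.not_le ?_⟩
  · have h1 := congrArg (ZN.ChoiceBase.cj g⁻¹) h0
    rw [cj_inv_cj] at h1
    exact h1.trans (Subgroup.map_bot _)
  · have h1 := cj_mono g h.le
    rwa [hV] at h1
  · have h1 := cj_mono g⁻¹ h0
    have h2 : ZN.ChoiceBase.cj g⁻¹ V = V := cj_eq_of_mem_normalizer (inv_mem hg)
    have h3 : ZN.ChoiceBase.cj g⁻¹ (o2 (centralizer ((ZN.ChoiceBase.cj g F : Subgroup G) : Set G))) =
        o2 (centralizer (F : Set G)) := by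
      have h4 := Flat.o2_conj g⁻¹ (centralizer ((ZN.ChoiceBase.cj g F : Subgroup G) : Set G))
      have h5 : ZN.ChoiceBase.cj g⁻¹ (centralizer ((ZN.ChoiceBase.cj g F : Subgroup G) : Set G)) =
          centralizer (F : Set G) := by
        rw [cj_centralizer, cj_inv_cj]
      change ZN.ChoiceBase.cj g⁻¹ _ = o2 (ZN.ChoiceBase.cj g⁻¹ _) at h4
      rw [h4, h5]
    rwa [h2, h3] at h1

theorem MaxBad.cj {V F : Subgroup G} (h : MaxBad V F) {g : G} (hg : g ∈ normalizer (V : Set G)) :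
    MaxBad V (cj g F) := by
  refine ⟨Bad.cj h.1 hg, fun D hD hFD => ?_⟩
  have h1 := Bad.cj hD (inv_mem hg)
  have h2 : F ≤ ZN.ChoiceBase.cj g⁻¹ D := by
    have h3 := cj_mono g⁻¹ hFD
    rwa [cj_inv_cj] at h3
  have h3 := h.2 _ h1 h2
  rw [← h3, cj_cj_inv]

theorem exists_maxBad [Finite G] {V D : Subgroup G} (h : Flat.Bad V D) : ∃ F, MaxBad V F ∧ D ≤ F := by
  obtain ⟨F, hF, hmax⟩ := Set.exists_max_image {F : Subgroup G | Flat.Bad V F ∧ D ≤ F} (fun F => Nat.card F)
    (Set.toFinite _) ⟨D, h, le_rfl⟩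
  exact ⟨F, ⟨hF.1, fun D' h1 h2 => (eq_of_le_of_card_ge h2 (hmax D' ⟨h1, hF.2.trans h2⟩)).symm⟩, hF.2⟩

end flat

/-! ### the w.c. frame and THEOREM FLAT -/

section root

variable [Finite G] {S : Sylow 2 G} {L F : Subgroup G}

/-- the hypotheses of THEOREM FLAT for a maximal bad `F ≤ V` -/
theorem hyp_of (hG : IsCharacteristicTwoType G) (h : Root S L) (hF : MaxBad (VL (S : Subgroup G) L) F) :
    Flat.Hyp (VL (S : Subgroup G) L) F where
  comm := h.V_comm
  sq := h.V_sq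
  syl := fun D _ hD => (h.o2_cent_le hD).trans (ML_le_norm_V _ _)
  noff := by
    intro A hA hc hs hne
    have h1 := h.V_nff A (NoEmp.pgroup_of_sq hs) hA (fun a ha => by rw [hs a ha]; exact one_mem _)
      (fun a ha b hb => by
        have e : a * b = b * a := (mem_centralizer_iff.1 (hc ha) b hb).symm
        rw [e, mul_inv_cancel_right, mul_inv_cancel]; exact one_mem _) hne
    by_contra h2
    exact absurd (FFThm.relIndex_le_iff.1 (not_lt.1 h2)) (not_le.2 h1)
  char2 := NOne.LemmaT.char2_centralizer hG ((NoEmp.pgroup_of_sq h.V_sq).to_le hF.1.le) hF.1.ne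
  bad := hF.1
  max := hF.2

/-- `W_F` is a 2-group in `M`. -/
theorem WW_le (h : Root S L) (hF : F ≤ VL (S : Subgroup G) L) :
    Flat.WW (VL (S : Subgroup G) L) F ≤ ML (S : Subgroup G) L :=
  Flat.Hyp.W_le_R.trans (h.o2_cent_le hF)

omit [Finite G] in
theorem WW_pgroup (V F : Subgroup G) : IsPGroup 2 (Flat.WW V F) :=
  (ZN.isPGroup_o2 _).to_le Flat.Hyp.W_le_R

/-- A group with a maximal bad `F`: `[V, W_F] ≠ 1`. -/
theorem WW_not_cent (hG : IsCharacteristicTwoType G) (h : Root S L) (hF : MaxBad (VL (S : Subgroup G) L) F) :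
    ¬ Flat.WW (VL (S : Subgroup G) L) F ≤ centralizer (VL (S : Subgroup G) L : Set G) := by
  intro h0
  have h1 := (hyp_of hG h hF).cent_VW
  rw [inf_eq_left.2 (cent_symm h0)] at h1
  apply hF.1.not_le
  have h2 : VL (S : Subgroup G) L ≤ centralizer (F : Set G) := h.V_comm.trans (centralizer_le hF.1.le)
  refine le_o2 h2 (NoEmp.pgroup_of_sq h.V_sq) ?_
  rw [← h1]
  exact centralizer_le_normalizer _

/-- `W_F ≤ S` implies `Z ≤ F`. -/
theorem zc_le_of (hG : IsCharacteristicTwoType G) (h : Root S L) (hF : MaxBad (VL (S : Subgroup G) L) F)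
    (hS : Flat.WW (VL (S : Subgroup G) L) F ≤ (S : Subgroup G)) : zc (S : Subgroup G) ≤ F := by
  rw [← (hyp_of hG h hF).cent_VW]
  exact le_inf (Root.zc_le_V (S := S)) (cent_symm (hS.trans (le_centralizer_zc _)))

/-- **THEOREM OFF, Corollary A**: `W_F ≤ S` offends on every `S`-local `Y ≤ V ∩ O₂(C_G(Z))` which it does not
centralise. -/
theorem off_of (hG : IsCharacteristicTwoType G) (hOff : StmtOff G) (h : Root S L)
    (hF : MaxBad (VL (S : Subgroup G) L) F)
    (hS : Flat.WW (VL (S : Subgroup G) L) F ≤ (S : Subgroup G)) {Y : Subgroup G}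
    (hYV : Y ≤ VL (S : Subgroup G) L) (hYZ : Y ≤ o2 (centralizer (zc (S : Subgroup G) : Set G)))
    (hne : ¬ Flat.WW (VL (S : Subgroup G) L) F ≤ centralizer (Y : Set G)) :
    OffM Y (Flat.WW (VL (S : Subgroup G) L) F) := by
  have hy := hyp_of hG h hF
  have hZF := zc_le_of hG h hF hS
  have hCF : centralizer (F : Set G) ≤ centralizer (zc (S : Subgroup G) : Set G) := centralizer_le hZF
  have h1 : Y ≤ o2 (centralizer (F : Set G)) := by
    have h2 : o2 (centralizer (zc (S : Subgroup G) : Set G)) ⊓ centralizer (F : Set G) ≤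
        o2 (centralizer (F : Set G)) := by
      refine le_o2 inf_le_right ((o2_isPGroup _).to_le inf_le_left) ?_
      intro x hx
      rw [mem_normalizer_iff_cj, cj_inf, cj_eq_of_mem_normalizer (Subgroup.le_normalizer hx),
        cj_eq_of_mem_normalizer (le_normalizer_o2 _ (hCF hx))]
    exact (le_inf hYZ (hYV.trans (h.V_comm.trans (centralizer_le hF.1.le)))).trans h2
  have h3 := hy.off_of_le (hOff _ _ hy) (Y := Y) (le_inf hYV h1)
  obtain ⟨e1, e2⟩ := hy.elem_W hYV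
  refine ⟨⟨fun a ha => by rw [pow_two]; exact e2 a ha, fun a ha b hb => e1 a ha b hb⟩, hne, ?_⟩
  exact FFThm.relIndex_le_iff.2 h3

/-- **PRINCIPLE for the `W_F`**: if `V ≰ O₂(C_G(Z))` then some `W_F ≤ S`, `F` maximal bad, moves `V_L`. -/
theorem exists_WW (hG : IsCharacteristicTwoType G) (hS : (S : Subgroup G) ≠ ⊥) (h : Root S L)
    (hV : ¬ VL (S : Subgroup G) L ≤ o2 (centralizer (zc (S : Subgroup G) : Set G))) :
    ∃ F, MaxBad (VL (S : Subgroup G) L) F ∧ Flat.WW (VL (S : Subgroup G) L) F ≤ (S : Subgroup G) ∧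
      ¬ Flat.WW (VL (S : Subgroup G) L) F ≤ centralizer (zl (S : Subgroup G) L : Set G) := by
  have hb : Flat.Bad (VL (S : Subgroup G) L) (zc (S : Subgroup G)) :=
    ⟨MinSimple.Basic.zc_ne_bot S.isPGroup' hS, Root.zc_le_V (S := S), hV⟩
  obtain ⟨F0, hF0, -⟩ := exists_maxBad hb
  obtain ⟨n, hn, hnS⟩ := h.exists_conj_le (WW_pgroup _ F0) (WW_le h hF0.1.le)
  have hnV := ML_le_norm_V _ _ hn
  obtain ⟨A, ⟨F, hF, rfl⟩, hAS, hAne⟩ := h.principle
    (F := {A | ∃ F, MaxBad (VL (S : Subgroup G) L) F ∧ Flat.WW (VL (S : Subgroup G) L) F = A})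
    (A := cj n (Flat.WW (VL (S : Subgroup G) L) F0)) (by
      rintro A ⟨F, hF, rfl⟩ m hm
      exact ⟨cj m F, hF.cj (ML_le_norm_V _ _ hm), WW_cj (ML_le_norm_V _ _ hm)⟩)
    ⟨cj n F0, hF0.cj hnV, WW_cj hnV⟩ hnS (by
      rw [← WW_cj hnV]
      exact WW_not_cent hG h (hF0.cj hnV))
  exact ⟨F, hF, hAS, hAne⟩

end root

end Cfsg.Agent.Omega.NO3b.Exit

end
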