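import Cfsg.Agent.Mrg.Omega.Node.NO1
import Cfsg.Agent.Mrg.Omega.FrameI
import Cfsg.Agent.Mrg.Omega.NOne.LemmaT
import Cfsg.Agent.Mrg.Omega.NO3S.NotFF.Basic


/-!
# The union text for NotFF (helper1, #15791; referee #15980), part (1): the chain

`Cf S P` : `G` of characteristic 2 type, `P ∈ P*(S)`, `V_P` has no offender (image sense). No hypothesis on
`O₂(C_G(Z))`.

* `InvU S P M` : `JMin.Inv S P M` and: `g ∈ M` whenever some `T` lies between `C_S(V)` and `S` and between
  `C_S(V)^g` and `S^g` (`V` depends only on `T`);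
* `Ch S P Fam M` : `M` is a member of a chain `M₀ = N_G(J(S))`, `M_{i+1} = N_{M_i}(KK S M_i SS)`, `SS` a family of
  the kind `Fam` whose members in `S` lie in `O₂(P)`; `Ch.invU`;
* `Cf.exists_min` : a member with minimal `V`;
* `Ch.exists_first` : (5), the first member which does not contain `X`;
* `Cf.exists_chain` (`Dich.lean`) : `V` is not FF, and (ALPHA) no `1 ≠ F ≤ V` is bad or (BETA) there is a maximal
  bad `F` with `W_F ≤ S`, `W_F ≰ O₂(P)`.
-/

set_option autoImplicit false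
set_option linter.unusedSectionVars false

namespace Cfsg.Agent.Omega.NO3b.Union

open Subgroup Cfsg Cfsg.Agent.ZN Cfsg.Agent.ZN.ChoiceBase Cfsg.Agent.Omega.MinPar Cfsg.Agent.Omega.Frame
open Cfsg.Agent.Omega.NO1 Cfsg.Agent.Omega.NO1.JMin
open Cfsg.Agent.ZN.ChoiceSit (Syl syl_conj exists_syl o2_le_syl)
open Cfsg.Agent.Omega.FFThm (OffM)
open Cfsg.Agent.PLocal.ThompsonJ (isElementaryAbelian_iff)
open Cfsg.Agent.Omega.NO3b.EZero (NotFF)

universe u

variable {G : Type u} [Group G] [Finite G]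

/-- The hypotheses. -/
structure Cf (S : Sylow 2 G) (P : Subgroup G) : Prop where
  char2 : IsCharacteristicTwoType G
  star : IsParS (S : Subgroup G) P
  noOff : ∀ A : Subgroup G, A ≤ (S : Subgroup G) → ¬ OffM (zl (S : Subgroup G) P) A

theorem Cf.of_noOff {S : Sylow 2 G} {P : Subgroup G} (hc : IsCharacteristicTwoType G)
    (hP : IsParS (S : Subgroup G) P) (h : NoOff (S : Subgroup G) P) : Cf S P :=
  ⟨hc, hP, fun A hA => h A (hA.trans hP.toIsPar.isLoc.le)⟩

/-- The invariant of the recursion: `V = ⟨Z^M⟩` depends only on a 2-group `T`, `C_S(V) ≤ T ≤ S`. -/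
structure InvU (S P M : Subgroup G) : Prop extends Inv S P M where
  U : ∀ (g : G) (T : Subgroup G), S ⊓ centralizer (zl S M : Set G) ≤ T → T ≤ S →
    cj g (S ⊓ centralizer (zl S M : Set G)) ≤ T → T ≤ cj g S → g ∈ M

section step

variable {S P M : Subgroup G}

/-- **The step.** -/
theorem InvU.step (h : InvU S P M) (hS2 : o2 P ≤ S)
    (hCS : S ⊓ centralizer (zl S P : Set G) ≤ o2 P) {SS : Set (Subgroup G)}
    (hSS : ∀ m ∈ M, ∀ X ∈ SS, cj m X ∈ SS) (hle : ∀ X ∈ SS, X ≤ S → X ≤ o2 P) :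
    InvU S P (M ⊓ normalizer (KK S M SS : Set G)) where
  toInv := h.toInv.step hS2 hCS hSS hle
  U := by
    intro g T h1 h2 h3 h4
    have hVV : zl S (M ⊓ normalizer (KK S M SS : Set G)) ≤ zl S M := zl_mono inf_le_left
    have hCC : S ⊓ centralizer (zl S M : Set G) ≤
        S ⊓ centralizer (zl S (M ⊓ normalizer (KK S M SS : Set G)) : Set G) :=
      inf_le_inf_left _ (centralizer_le hVV)
    have hg : g ∈ M := h.U g T (hCC.trans h1) h2 ((cj_mono g hCC).trans h3) h4
    have hgV := cj_eq_of_mem_normalizer (MinSimple.VModule.le_normalizer_zl S M hg)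
    have hK : KK S M SS ≤ S ⊓ centralizer (zl S (M ⊓ normalizer (KK S M SS : Set G)) : Set G) :=
      le_inf (KK_le S M SS) (KK_le_centralizer SS)
    refine ⟨hg, mem_normalizer_of_cj_le ?_⟩
    have hKS : cj g (KK S M SS) ≤ S := (cj_mono g hK).trans (h3.trans h2)
    rw [KK, cj, Subgroup.map_sup]
    refine sup_le ?_ ?_
    · refine le_trans ?_ (le_sup_left : S ⊓ centralizer (zl S M : Set G) ≤ KK S M SS)
      refine le_inf ((cj_mono g (le_sup_left : S ⊓ centralizer (zl S M : Set G) ≤ KK S M SS)).trans hKS) ?_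
      refine (cj_mono g inf_le_right).trans ?_
      rw [cj_centralizer, hgV]
    · rw [Subgroup.map_le_iff_le_comap]
      refine sSup_le fun X hX => ?_
      rw [← Subgroup.map_le_iff_le_comap]
      exact le_KK (hSS g hg X hX.1) ((cj_mono g (le_KK hX.1 hX.2)).trans hKS)

end step

namespace Cf

variable {S : Sylow 2 G} {P : Subgroup G} (h : Cf S P)
include h

theorem loc : IsLoc (S : Subgroup G) P := h.star.toIsPar.isLoc

theorem S_le : (S : Subgroup G) ≤ P := h.loc.le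

theorem V_le_S : zl (S : Subgroup G) P ≤ S :=
  ((h.loc.zl_le S h.char2).trans (zc_le _)).trans (h.loc.o2_le S)

theorem V_comm : zl (S : Subgroup G) P ≤ centralizer (zl (S : Subgroup G) P : Set G) := by
  have h1 := h.loc.zl_le S h.char2
  intro x hx
  rw [mem_centralizer_iff]
  intro y hy
  exact MinSimple.VModule.zc_comm _ _ (h1 hy) _ (h1 hx)

theorem V_sq (w : G) (hw : w ∈ zl (S : Subgroup G) P) : w ^ 2 = 1 :=
  MinSimple.VModule.zc_sq _ _ (h.loc.zl_le S h.char2 hw)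

/-- `C_S(V_P) = O₂(P)` -/
theorem S_inf_centralizer :
    (S : Subgroup G) ⊓ centralizer (zl (S : Subgroup G) P : Set G) = o2 P :=
  h.star.inf_centralizer S h.char2

theorem jj_le_o2 : jj (S : Subgroup G) ≤ o2 P := by
  rw [jj_eq, ← h.S_inf_centralizer]
  refine sSup_le fun A hA => le_inf hA.2.1 ?_
  by_contra hne
  have hV : IsElementaryAbelian 2 (zl (S : Subgroup G) P) :=
    isElementaryAbelian_iff.2 ⟨fun a ha b hb => mem_centralizer_iff.1 (h.V_comm hb) a ha, h.V_sq⟩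
  exact h.noOff A hA.2.1 (FFThm.off_of_AA hV h.V_le_S hA hne).offM

/-- The start `M = N_G(J(S))`. -/
theorem inv_zero : InvU (S : Subgroup G) P (normalizer (jj (S : Subgroup G) : Set G)) := by
  have hV : zl (S : Subgroup G) (normalizer (jj (S : Subgroup G) : Set G)) ≤ zj (S : Subgroup G) := by
    refine MinSimple.VModule.zl_le (ChoiceBase.zc_le_zj _) ?_
    intro g hg
    have h1 := cj_eq_of_mem_normalizer hg
    rw [mem_normalizer_iff_cj, ← zj_cj]
    refine zj_congr ?_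
    rw [jj_cj, h1]
  have hJ : jj (S : Subgroup G) ≤ (S : Subgroup G) ⊓
      centralizer (zl (S : Subgroup G) (normalizer (jj (S : Subgroup G) : Set G)) : Set G) := by
    refine le_inf (ChoiceBase.jj_le _) ?_
    rw [Subgroup.le_centralizer_iff]
    exact hV.trans fun x hx => mem_centralizer_iff.2 fun y hy => (ChoiceBase.mem_zj.1 hx).2.2 y hy
  refine ⟨⟨le_normalizer.trans (normalizer_le_jj _), ?_, ?_, ?_⟩, ?_⟩
  · have h1 : jj (o2 P) = jj (S : Subgroup G) := jj_eq_of_jj_le h.jj_le_o2 (h.loc.o2_le S)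
    rw [← h1]
    exact (MinSimple.VModule.le_normalizer_o2 P).trans (normalizer_le_jj _)
  · refine isElementaryAbelian_iff.2 ⟨fun a ha b hb => ?_, fun a ha => (ChoiceBase.mem_zj.1 (hV ha)).2.1⟩
    exact (ChoiceBase.mem_zj.1 (hV hb)).2.2 a (ChoiceBase.mem_zj.1 (hV ha)).1
  · intro T hT hTS
    rw [← jj_eq_of_jj_le (hJ.trans hT) hTS]
    exact normalizer_le_jj T
  · intro g T h1 h2 h3 h4
    have e1 : jj T = jj (S : Subgroup G) := jj_eq_of_jj_le (hJ.trans h1) h2
    have e2 : jj T = jj (cj g (S : Subgroup G)) := by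
      refine jj_eq_of_jj_le ?_ h4
      rw [jj_cj]
      exact (cj_mono g hJ).trans h3
    rw [mem_normalizer_iff_cj, ← jj_cj, ← e2, e1]

end Cf

/-! ### The chain -/

/-- The chain. -/
inductive Ch (S P : Subgroup G) (Fam : Subgroup G → Set (Subgroup G) → Prop) : Subgroup G → Prop
  | zero : Ch S P Fam (normalizer (jj S : Set G))
  | step {M : Subgroup G} {SS : Set (Subgroup G)} (c : Ch S P Fam M) (hF : Fam M SS)
      (hSS : ∀ m ∈ M, ∀ X ∈ SS, cj m X ∈ SS) (hle : ∀ X ∈ SS, X ≤ S → X ≤ o2 P) :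
      Ch S P Fam (M ⊓ normalizer (KK S M SS : Set G))

section chain

variable {S : Sylow 2 G} {P M : Subgroup G} {Fam : Subgroup G → Set (Subgroup G) → Prop}

theorem Ch.invU (h : Cf S P) (c : Ch (S : Subgroup G) P Fam M) : InvU (S : Subgroup G) P M := by
  induction c with
  | zero => exact h.inv_zero
  | step _ _ hSS hle ih => exact ih.step (h.loc.o2_le S) h.S_inf_centralizer.le hSS hle

/-- **LEMMA J.** -/
theorem Cf.exists_min (h : Cf S P) (Fam : Subgroup G → Set (Subgroup G) → Prop) :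
    ∃ M : Subgroup G, Ch (S : Subgroup G) P Fam M ∧
      ∀ SS : Set (Subgroup G), Fam M SS → (∀ m ∈ M, ∀ X ∈ SS, cj m X ∈ SS) →
        (∃ X ∈ SS, X ≤ S ∧ ¬ X ≤ centralizer (zl (S : Subgroup G) M : Set G)) →
        ∃ X ∈ SS, X ≤ S ∧ ¬ X ≤ o2 P := by
  obtain ⟨M, hM, hmin⟩ := Set.exists_min_image {M : Subgroup G | Ch (S : Subgroup G) P Fam M}
    (fun M => Nat.card (zl (S : Subgroup G) M)) (Set.toFinite _) ⟨_, Ch.zero⟩
  refine ⟨M, hM, fun SS hF hSS hex => ?_⟩
  by_contra hcon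
  push Not at hcon
  obtain ⟨X, hX, hXS, hXC⟩ := hex
  have h2 := hmin _ (Ch.step hM hF hSS hcon)
  have h3 : zl (S : Subgroup G) (M ⊓ normalizer (KK (S : Subgroup G) M SS : Set G)) = zl (S : Subgroup G) M :=
    Subgroup.eq_of_le_of_card_ge (zl_mono inf_le_left) h2
  apply hXC
  rw [← h3]
  exact (le_KK hX hXS).trans (KK_le_centralizer SS)

/-- **(5)**: the first member of the chain which does not contain `X`. -/
theorem Ch.exists_first (c : Ch (S : Subgroup G) P Fam M) {X : Subgroup G} (hX : ¬ X ≤ M) :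
    ¬ X ≤ normalizer (jj (S : Subgroup G) : Set G) ∨
      ∃ (M' : Subgroup G) (SS : Set (Subgroup G)), Ch (S : Subgroup G) P Fam M' ∧ Fam M' SS ∧
        (∀ m ∈ M', ∀ Y ∈ SS, cj m Y ∈ SS) ∧ (∀ Y ∈ SS, Y ≤ S → Y ≤ o2 P) ∧
        M ≤ M' ⊓ normalizer (KK (S : Subgroup G) M' SS : Set G) ∧ X ≤ M' ∧
        ¬ X ≤ normalizer (KK (S : Subgroup G) M' SS : Set G) := by
  induction c with
  | zero => exact Or.inl hX
  | @step M SS c hF hSS hle ih =>
    by_cases hXM : X ≤ M
    · exact Or.inr ⟨M, SS, c, hF, hSS, hle, le_rfl, hXM, fun h1 => hX (le_inf hXM h1)⟩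
    · rcases ih hXM with h1 | ⟨M', SS', c', hF', hSS', hle', hMM, hXM', hn⟩
      · exact Or.inl h1
      · exact Or.inr ⟨M', SS', c', hF', hSS', hle', inf_le_left.trans hMM, hXM', hn⟩

/-- The step subgroup of (5) lies in `C_S(V)`. -/
theorem KK_le_of_le {M' : Subgroup G} {SS : Set (Subgroup G)}
    (hMM : M ≤ M' ⊓ normalizer (KK (S : Subgroup G) M' SS : Set G)) :
    KK (S : Subgroup G) M' SS ≤ (S : Subgroup G) ⊓ centralizer (zl (S : Subgroup G) M : Set G) :=
  le_inf (KK_le _ _ _) ((KK_le_centralizer SS).trans (centralizer_le (zl_mono hMM)))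

/-- ... and is not contained in `O₂(X)`, `T ≤ X`, `O₂(X) ≤ S`. -/
theorem not_KK_le {M' X : Subgroup G} {SS : Set (Subgroup G)} (hSS : ∀ m ∈ M', ∀ Y ∈ SS, cj m Y ∈ SS)
    (hXM : X ≤ M') (hXS : o2 X ≤ S) (hn : ¬ X ≤ normalizer (KK (S : Subgroup G) M' SS : Set G)) :
    ¬ KK (S : Subgroup G) M' SS ≤ o2 X := fun hle => hn fun _ hx =>
  mem_normalizer_KK hSS hle hXS (hXM hx) (MinSimple.VModule.le_normalizer_o2 X hx)

end chain

/-! ### `V` -/

section V

variable {S : Sylow 2 G} {P M : Subgroup G}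

theorem V_comm (h : Inv (S : Subgroup G) P M) :
    zl (S : Subgroup G) M ≤ centralizer (zl (S : Subgroup G) M : Set G) := fun x hx =>
  mem_centralizer_iff.2 fun y hy => (isElementaryAbelian_iff.1 h.el).1 y hy x hx

theorem V_sq (h : Inv (S : Subgroup G) P M) : ∀ v ∈ zl (S : Subgroup G) M, v ^ 2 = 1 :=
  (isElementaryAbelian_iff.1 h.el).2

theorem M_le (_h : Inv (S : Subgroup G) P M) : M ≤ normalizer (zl (S : Subgroup G) M : Set G) :=
  MinSimple.VModule.le_normalizer_zl _ _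

theorem V_two (h : Inv (S : Subgroup G) P M) : IsPGroup 2 (zl (S : Subgroup G) M) := fun x =>
  ⟨1, Subtype.ext (by simpa using V_sq h x x.2)⟩

theorem V_le_S (h : Inv (S : Subgroup G) P M) : zl (S : Subgroup G) M ≤ S :=
  le_of_le_normalizer S (V_two h) (h.SM.trans (M_le h))

theorem Z_le (_h : Inv (S : Subgroup G) P M) : zc (S : Subgroup G) ≤ zl (S : Subgroup G) M :=
  MinSimple.VModule.zc_le_zl _ _

theorem VP_le (h : Inv (S : Subgroup G) P M) : zl (S : Subgroup G) P ≤ zl (S : Subgroup G) M :=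
  zl_mono h.PM

/-- a 2-subgroup of `N_G(V)` has a conjugate in `S` -/
theorem exists_conj_le {N A : Subgroup G} (hSN : (S : Subgroup G) ≤ N) (hA : IsPGroup 2 A) (hAN : A ≤ N) :
    ∃ n ∈ N, cj n A ≤ S := by
  have hS : Syl (S : Subgroup G) N := ⟨hSN, S.isPGroup', fun Q _ hQ hSQ => S.is_maximal' hQ hSQ⟩
  obtain ⟨R, hR, hAR⟩ := exists_syl hA hAN
  obtain ⟨n, hn, hn'⟩ := syl_conj hR hS
  exact ⟨n, hn, hn' ▸ cj_mono n hAR⟩

end V

end Cfsg.Agent.Omega.NO3b.Union
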